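import Cfsg.Agent.Helper71.BSW.Defs

/-!
# S3282 (helper71, abstract Brauer–Suzuki–Wall), piece (A1d): the number of non-identity elements
conjugate into `K` (TI counting).
-/

set_option autoImplicit false

namespace Cfsg.Agent.Helper55.BSW

open Cfsg.Agent.Helper71.BSW

theorem card_subgroup_ne_one {G : Type*} [Group G] [Finite G] (K : Subgroup G) :
    Nat.card {y : G // y ∈ K ∧ y ≠ 1} = Nat.card K - 1 := by
  have h1 : Nat.card {y : G // y ∈ K ∧ y ≠ 1} = ((K : Set G) \ {1}).ncard := by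
    rw [← Nat.card_coe_set_eq]
    exact Nat.card_congr (Equiv.subtypeEquivRight (fun y => by simp))
  rw [h1, Set.ncard_sdiff_singleton_of_mem (K.one_mem), ← Nat.card_coe_set_eq]
  rfl

theorem a1_card_conjK {G : Type*} [Group G] [Finite G] {t s : G} {K : Subgroup G}
    (h : Hyp t s K) (A : FactsA0 t s K) :
    Nat.card {g : G // g ≠ 1 ∧ ∃ x : G, x * g * x⁻¹ ∈ K} * (2 * Nat.card K) =
    Nat.card G * (Nat.card K - 1) := by
  classical
  -- `C(t)` normalizes `K`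
  have hnorm : ∀ c ∈ Subgroup.centralizer ({t} : Set G), ∀ y ∈ K, c * y * c⁻¹ ∈ K := by
    intro c hc y hy
    rcases A.mem_cent_t_cases c hc with hcK | ⟨x, hx, rfl⟩
    · rw [h.hKab c hcK y hy, mul_inv_cancel_right]
      exact hy
    · rw [A.s_mul_inverts x hx y hy]
      exact K.inv_mem hy
  -- chosen conjugators
  have hex : ∀ g : {g : G // g ≠ 1 ∧ ∃ x : G, x * g * x⁻¹ ∈ K}, ∃ x : G, x * g.1 * x⁻¹ ∈ K :=
    fun g => g.2.2
  choose xg hxg using hex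
  have hyg1 : ∀ g : {g : G // g ≠ 1 ∧ ∃ x : G, x * g * x⁻¹ ∈ K}, xg g * g.1 * (xg g)⁻¹ ≠ 1 := by
    intro g hg
    rw [conj_eq_one_iff] at hg
    exact g.2.1 hg
  let Ψ : {g : G // g ≠ 1 ∧ ∃ x : G, x * g * x⁻¹ ∈ K} × ↥(Subgroup.centralizer ({t} : Set G)) →
      G × {y : G // y ∈ K ∧ y ≠ 1} := fun p =>
    (p.2.1 * xg p.1, ⟨p.2.1 * (xg p.1 * p.1.1 * (xg p.1)⁻¹) * p.2.1⁻¹,
      hnorm _ p.2.2 _ (hxg p.1), fun h1 => hyg1 p.1 (conj_eq_one_iff.mp h1)⟩)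
  have hΨinj : Function.Injective Ψ := by
    rintro ⟨g, c⟩ ⟨g', c'⟩ hp
    have h1 : c.1 * xg g = c'.1 * xg g' := congrArg Prod.fst hp
    have h2 : c.1 * (xg g * g.1 * (xg g)⁻¹) * c.1⁻¹ = c'.1 * (xg g' * g'.1 * (xg g')⁻¹) * c'.1⁻¹ :=
      congrArg (fun q => (q.2 : G)) hp
    have hgg : g.1 = g'.1 := by
      have e1 : g.1 = (c.1 * xg g)⁻¹ * (c.1 * (xg g * g.1 * (xg g)⁻¹) * c.1⁻¹) * (c.1 * xg g) := by
        group
      have e2 : g'.1 = (c'.1 * xg g')⁻¹ * (c'.1 * (xg g' * g'.1 * (xg g')⁻¹) * c'.1⁻¹) *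
          (c'.1 * xg g') := by
        group
      rw [e1, e2, h1, h2]
    have hgg' : g = g' := Subtype.ext hgg
    subst hgg'
    have hcc : c.1 = c'.1 := mul_right_cancel h1
    rw [Subtype.ext hcc]
  have hΨsurj : Function.Surjective Ψ := by
    rintro ⟨x, ⟨y, hyK, hy1⟩⟩
    have hg : x⁻¹ * y * x ≠ 1 ∧ ∃ x' : G, x' * (x⁻¹ * y * x) * x'⁻¹ ∈ K := by
      refine ⟨fun h1 => hy1 ?_, x, ?_⟩
      · have : y = x * (x⁻¹ * y * x) * x⁻¹ := by group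
        rw [this, h1]; group
      · have : x * (x⁻¹ * y * x) * x⁻¹ = y := by group
        rw [this]; exact hyK
    set g : {g : G // g ≠ 1 ∧ ∃ x : G, x * g * x⁻¹ ∈ K} := ⟨x⁻¹ * y * x, hg⟩ with hgdef
    have hcy : (x * (xg g)⁻¹) * (xg g * g.1 * (xg g)⁻¹) * (x * (xg g)⁻¹)⁻¹ = y := by
      show (x * (xg g)⁻¹) * (xg g * (x⁻¹ * y * x) * (xg g)⁻¹) * (x * (xg g)⁻¹)⁻¹ = y
      group
    have hcC : x * (xg g)⁻¹ ∈ Subgroup.centralizer ({t} : Set G) :=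
      A.mem_cent_t_of_conj_mem _ (hxg g) (hyg1 g) _ (by rw [hcy]; exact hyK)
    refine ⟨(g, ⟨x * (xg g)⁻¹, hcC⟩), ?_⟩
    apply Prod.ext
    · show x * (xg g)⁻¹ * xg g = x
      group
    · apply Subtype.ext
      exact hcy
  have hcard := Nat.card_congr (Equiv.ofBijective Ψ ⟨hΨinj, hΨsurj⟩)
  rw [Nat.card_prod, Nat.card_prod, A.card_cent_t, card_subgroup_ne_one] at hcard
  exact hcard

end Cfsg.Agent.Helper55.BSW
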