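import Cfsg.Agent.Helper71.BSW.Defs

/-!
# S3282 (helper71, abstract Brauer–Suzuki–Wall), piece (A1f): each non-identity element of `K` is a
product of two involutions in exactly `|K|` ways.
-/

set_option autoImplicit false

namespace Cfsg.Agent.Helper55.BSW

open Cfsg.Agent.Helper71.BSW

theorem a1_invPairs_of_mem_K {G : Type*} [Group G] [Finite G] {t s : G} {K : Subgroup G}
    (h : Hyp t s K) (A : FactsA0 t s K) :
    ∀ y ∈ K, y ≠ 1 → invPairs y = Nat.card K := by
  intro y hyK hy1
  have hp2 : Fact (Nat.Prime 2) := ⟨Nat.prime_two⟩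
  have hinv_of : ∀ a : G, orderOf a = 2 → a * a = 1 ∧ a⁻¹ = a := by
    intro a ha
    have h2 : a ^ 2 = 1 := by rw [← ha]; exact pow_orderOf_eq_one a
    have h3 : a * a = 1 := by rwa [pow_two] at h2
    exact ⟨h3, inv_eq_of_mul_eq_one_left h3⟩
  have hpair : ∀ x ∈ K, orderOf (s * x) = 2 ∧ orderOf (s * x * y) = 2 ∧
      (s * x) * (s * x * y) = y := by
    intro x hx
    have ha := A.orderOf_s_mul x hx
    obtain ⟨haa, hainv⟩ := hinv_of _ ha
    refine ⟨ha, ?_, ?_⟩
    · apply orderOf_eq_prime
      · have h1 := A.s_mul_inverts x hx y hyK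
        rw [hainv] at h1
        rw [pow_two]
        calc s * x * y * (s * x * y) = (s * x * y * (s * x)) * y := by group
          _ = y⁻¹ * y := by rw [h1]
          _ = 1 := inv_mul_cancel y
      · intro h1
        apply h.hsK
        have : s = (x * y)⁻¹ := by
          rw [eq_inv_iff_mul_eq_one, ← h1]; group
        rw [this]
        exact K.inv_mem (K.mul_mem hx hyK)
    · calc (s * x) * (s * x * y) = ((s * x) * (s * x)) * y := by group
        _ = y := by rw [haa, one_mul]
  unfold invPairs
  symm
  let f : K → {p : G × G // orderOf p.1 = 2 ∧ orderOf p.2 = 2 ∧ p.1 * p.2 = y} := fun x =>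
    ⟨(s * x, s * x * y), hpair x x.2⟩
  have hinj : Function.Injective f := by
    intro x x' hxx
    have h1 : s * (x : G) = s * (x' : G) := congrArg (fun p => p.1.1) hxx
    exact Subtype.ext (mul_left_cancel h1)
  have hsurj : Function.Surjective f := by
    rintro ⟨⟨a, b⟩, ha, hb, hab⟩
    simp only at ha hb hab
    obtain ⟨haa, hainv⟩ := hinv_of a ha
    obtain ⟨hbb, hbinv⟩ := hinv_of b hb
    have hb_eq : b = a * y := by
      rw [← hab, ← mul_assoc, haa, one_mul]
    -- `a` inverts `y`
    have hconj : a * y * a⁻¹ = y⁻¹ := by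
      rw [← hab, mul_inv_rev, hainv, hbinv]
      calc a * (a * b) * a = (a * a) * b * a := by group
        _ = b * a := by rw [haa, one_mul]
    have haC : a ∈ Subgroup.centralizer ({t} : Set G) :=
      A.mem_cent_t_of_conj_mem y hyK hy1 a (by rw [hconj]; exact K.inv_mem hyK)
    rcases A.mem_cent_t_cases a haC with haK | ⟨x, hx, hax⟩
    · exfalso
      have hat : a = t := A.eq_t_of_mem_K a haK ha
      have hyy : y⁻¹ = y := by
        rw [← hconj, h.hKab a haK y hyK, mul_inv_cancel_right]
      have hy2 : orderOf y = 2 := by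
        apply orderOf_eq_prime _ hy1
        rw [pow_two]
        nth_rewrite 1 [← hyy]
        exact inv_mul_cancel y
      have hyt : y = t := A.eq_t_of_mem_K y hyK hy2
      have : b = 1 := by rw [hb_eq, hat, hyt]; exact (hinv_of t h.ht).1
      rw [this, orderOf_one] at hb
      exact absurd hb (by norm_num)
    · refine ⟨⟨x, hx⟩, ?_⟩
      apply Subtype.ext
      show (s * x, s * x * y) = (a, b)
      rw [← hax, hb_eq]
  exact Nat.card_congr (Equiv.ofBijective f ⟨hinj, hsurj⟩)

end Cfsg.Agent.Helper55.BSW
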