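import Cfsg.Agent.Helper71.BSW.Defs

/-!
# S3282 (helper71, abstract Brauer–Suzuki–Wall), piece (C1): `C(z)` is abelian when `q` is not a prime
power.
-/

set_option autoImplicit false

namespace Cfsg.Agent.Helper55.BSW

open Cfsg.Agent.Helper71.BSW

/-- the centralizer of an element is contained in the centralizer of each of its powers -/
theorem centralizer_le_centralizer_pow {G : Type*} [Group G] (g : G) (n : ℕ) :
    Subgroup.centralizer ({g} : Set G) ≤ Subgroup.centralizer ({g ^ n} : Set G) := by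
  intro a ha
  rw [Subgroup.mem_centralizer_iff] at ha ⊢
  intro b hb
  rw [Set.mem_singleton_iff] at hb
  subst hb
  have h1 : Commute g a := ha g rfl
  exact (h1.pow_left n).eq

theorem self_mem_centralizer {G : Type*} [Group G] (g : G) :
    g ∈ Subgroup.centralizer ({g} : Set G) := by
  rw [Subgroup.mem_centralizer_iff]
  intro b hb
  rw [Set.mem_singleton_iff] at hb
  subst hb
  rfl

/-- an element of prime order `ℓ` obtained as a power -/
theorem exists_pow_prime_order {G : Type*} [Group G] [Finite G] (g : G) (hg : g ≠ 1) :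
    ∃ (ℓ n : ℕ), ℓ.Prime ∧ ℓ ∣ orderOf g ∧ orderOf (g ^ n) = ℓ := by
  have h1 : orderOf g ≠ 1 := fun h => hg (orderOf_eq_one_iff.mp h)
  refine ⟨(orderOf g).minFac, orderOf g / (orderOf g).minFac, Nat.minFac_prime h1,
    Nat.minFac_dvd _, ?_⟩
  exact orderOf_pow_orderOf_div (orderOf_pos g).ne' (Nat.minFac_dvd _)

theorem c_abelian_of_two_primes {G : Type*} [Group G] [Finite G] {t s : G} {K : Subgroup G} {q d : ℕ}
    (c : Ctx t s K q d)
    (h_arith : Odd q ∧ Odd d ∧ q.Coprime (2 * Nat.card K) ∧ d.Coprime (2 * Nat.card K) ∧ q.Coprime d ∧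
      q ^ 2 = 4 * Nat.card K * d + 1 ∧ 3 ≤ d ∧ 7 ≤ q)
    (h_card_cent_Q : ∀ z : G, z ≠ 1 → (orderOf z).Coprime (2 * Nat.card K * d) →
    Nat.card (Subgroup.centralizer ({z} : Set G)) = q)
    {p p' : ℕ} (hp : p.Prime) (hp' : p'.Prime) (hne : p ≠ p') (hpq : p ∣ q) (hpq' : p' ∣ q) :
    ∀ z : G, z ≠ 1 → (orderOf z).Coprime (2 * Nat.card K * d) →
    ∀ a ∈ Subgroup.centralizer ({z} : Set G), ∀ b ∈ Subgroup.centralizer ({z} : Set G),
      a * b = b * a := by
  obtain ⟨-, -, hq2k, -, hqd, -, -, -⟩ := h_arith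
  have hqcop : q.Coprime (2 * Nat.card K * d) := Nat.Coprime.mul_right hq2k hqd
  -- non-identity elements of `C(z)` are `q`-elements
  have L0d : ∀ z : G, z ≠ 1 → (orderOf z).Coprime (2 * Nat.card K * d) →
      ∀ v ∈ Subgroup.centralizer ({z} : Set G), orderOf v ∣ q := by
    intro z hz1 hzc v hv
    rw [← h_card_cent_Q z hz1 hzc]
    have := orderOf_dvd_natCard (⟨v, hv⟩ : Subgroup.centralizer ({z} : Set G))
    rwa [Subgroup.orderOf_mk] at this
  have L0 : ∀ z : G, z ≠ 1 → (orderOf z).Coprime (2 * Nat.card K * d) →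
      ∀ v ∈ Subgroup.centralizer ({z} : Set G), (orderOf v).Coprime (2 * Nat.card K * d) :=
    fun z hz1 hzc v hv => Nat.Coprime.coprime_dvd_left (L0d z hz1 hzc v hv) hqcop
  have Ceq : ∀ A B : Subgroup G, A ≤ B → Nat.card A = Nat.card B → A = B :=
    fun A B hAB hc => Subgroup.eq_of_le_of_card_ge hAB hc.ge
  -- (★)
  have star : ∀ v : G, v ≠ 1 → (orderOf v).Coprime (2 * Nat.card K * d) → ∀ ℓ ℓ' : ℕ, ℓ.Prime →
      ℓ'.Prime → ℓ ≠ ℓ' → orderOf v = ℓ → ∀ y ∈ Subgroup.centralizer ({v} : Set G),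
      orderOf y = ℓ' →
      Subgroup.centralizer ({y} : Set G) = Subgroup.centralizer ({v} : Set G) := by
    intro v hv1 hvc ℓ ℓ' hℓ hℓ' hll hvo y hy hyo
    have hy1 : y ≠ 1 := by
      rintro rfl
      rw [orderOf_one] at hyo
      exact hℓ'.one_lt.ne hyo
    have hyc := L0 v hv1 hvc y hy
    have hcomm : Commute v y := by
      rw [Subgroup.mem_centralizer_iff] at hy
      exact hy v rfl
    have hcop : (orderOf v).Coprime (orderOf y) := by
      rw [hvo, hyo]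
      exact (Nat.coprime_primes hℓ hℓ').mpr hll
    have hvy1 : v * y ≠ 1 := by
      intro h1
      have h2 := hcomm.orderOf_mul_eq_mul_orderOf_of_coprime hcop
      rw [h1, orderOf_one, hvo, hyo] at h2
      have := hℓ.two_le
      have := hℓ'.two_le
      nlinarith
    have hvyC : v * y ∈ Subgroup.centralizer ({v} : Set G) :=
      Subgroup.mul_mem _ (self_mem_centralizer v) hy
    have hvyc := L0 v hv1 hvc (v * y) hvyC
    have hvℓ : v ^ ℓ = 1 := hvo ▸ pow_orderOf_eq_one v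
    have hyℓ : y ^ ℓ' = 1 := hyo ▸ pow_orderOf_eq_one y
    have hvpow : ∃ n, (v * y) ^ n = v := by
      obtain ⟨m, -, hm⟩ := Nat.exists_mul_mod_eq_one_of_coprime
        ((Nat.coprime_primes hℓ' hℓ).mpr hll.symm) hℓ.one_lt
      refine ⟨ℓ' * m, ?_⟩
      rw [hcomm.mul_pow, pow_mul y, hyℓ, one_pow, mul_one, ← pow_mod_orderOf, hvo, hm, pow_one]
    have hypow : ∃ n, (v * y) ^ n = y := by
      obtain ⟨m, -, hm⟩ := Nat.exists_mul_mod_eq_one_of_coprime
        ((Nat.coprime_primes hℓ hℓ').mpr hll) hℓ'.one_lt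
      refine ⟨ℓ * m, ?_⟩
      rw [hcomm.mul_pow, pow_mul v, hvℓ, one_pow, one_mul, ← pow_mod_orderOf, hyo, hm, pow_one]
    have h1 : Subgroup.centralizer ({v * y} : Set G) ≤ Subgroup.centralizer ({v} : Set G) := by
      obtain ⟨n, hn⟩ := hvpow
      have := centralizer_le_centralizer_pow (v * y) n
      rwa [hn] at this
    have h2 : Subgroup.centralizer ({v * y} : Set G) ≤ Subgroup.centralizer ({y} : Set G) := by
      obtain ⟨n, hn⟩ := hypow
      have := centralizer_le_centralizer_pow (v * y) n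
      rwa [hn] at this
    have e1 := Ceq _ _ h1 (by rw [h_card_cent_Q _ hvy1 hvyc, h_card_cent_Q v hv1 hvc])
    have e2 := Ceq _ _ h2 (by rw [h_card_cent_Q _ hvy1 hvyc, h_card_cent_Q y hy1 hyc])
    rw [← e2, e1]
  intro z hz1 hzc
  -- an element `z'` of prime order `ℓ` with `C(z') = C(z)`
  obtain ⟨ℓ, n, hℓ, -, hz'o⟩ := exists_pow_prime_order z hz1
  have hz'1 : z ^ n ≠ 1 := by
    intro h1
    rw [h1, orderOf_one] at hz'o
    exact hℓ.one_lt.ne hz'o
  have hz'C : z ^ n ∈ Subgroup.centralizer ({z} : Set G) :=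
    Subgroup.pow_mem _ (self_mem_centralizer z) n
  have hz'c := L0 z hz1 hzc _ hz'C
  have hQ : Subgroup.centralizer ({z} : Set G) = Subgroup.centralizer ({z ^ n} : Set G) :=
    Ceq _ _ (centralizer_le_centralizer_pow z n)
      (by rw [h_card_cent_Q z hz1 hzc, h_card_cent_Q _ hz'1 hz'c])
  -- a prime `ℓ'` dividing `q` different from `ℓ`
  obtain ⟨ℓ', hℓ', hℓ'q, hll⟩ : ∃ ℓ' : ℕ, ℓ'.Prime ∧ ℓ' ∣ q ∧ ℓ ≠ ℓ' := by
    by_cases h1 : ℓ = p
    · exact ⟨p', hp', hpq', h1 ▸ hne⟩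
    · exact ⟨p, hp, hpq, h1⟩
  -- an element `y₀` of `C(z)` of order `ℓ'`
  have hfact : Fact ℓ'.Prime := ⟨hℓ'⟩
  obtain ⟨y₀', hy₀'⟩ := exists_prime_orderOf_dvd_card' (G := Subgroup.centralizer ({z} : Set G)) ℓ'
    (by rw [h_card_cent_Q z hz1 hzc]; exact hℓ'q)
  obtain ⟨y₀, hy₀C, hy₀o⟩ : ∃ y₀ ∈ Subgroup.centralizer ({z} : Set G), orderOf y₀ = ℓ' :=
    ⟨y₀'.1, y₀'.2, by rw [Subgroup.orderOf_coe]; exact hy₀'⟩
  have hy₀1 : y₀ ≠ 1 := by
    rintro rfl
    rw [orderOf_one] at hy₀o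
    exact hℓ'.one_lt.ne hy₀o
  have hy₀c := L0 z hz1 hzc y₀ hy₀C
  have hCy₀ : Subgroup.centralizer ({y₀} : Set G) = Subgroup.centralizer ({z} : Set G) := by
    rw [hQ]
    exact star (z ^ n) hz'1 hz'c ℓ ℓ' hℓ hℓ' hll hz'o y₀ (hQ ▸ hy₀C) hy₀o
  -- every non-identity element of `C(z)` has centralizer `C(z)`
  have hall : ∀ g ∈ Subgroup.centralizer ({z} : Set G), g ≠ 1 →
      Subgroup.centralizer ({g} : Set G) = Subgroup.centralizer ({z} : Set G) := by
    intro g hgC hg1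
    have hgc := L0 z hz1 hzc g hgC
    obtain ⟨ℓ₁, m, hℓ₁, -, hg'o⟩ := exists_pow_prime_order g hg1
    have hg'C : g ^ m ∈ Subgroup.centralizer ({z} : Set G) := Subgroup.pow_mem _ hgC m
    have hCg' : Subgroup.centralizer ({g ^ m} : Set G) = Subgroup.centralizer ({z} : Set G) := by
      by_cases h1 : ℓ₁ = ℓ
      · rw [← hCy₀]
        exact star y₀ hy₀1 hy₀c ℓ' ℓ₁ hℓ' hℓ₁ (fun h2 => hll (h1.symm.trans h2.symm)) hy₀o (g ^ m)
          (hCy₀ ▸ hg'C) hg'o
      · rw [hQ]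
        exact star (z ^ n) hz'1 hz'c ℓ ℓ₁ hℓ hℓ₁ (fun h2 => h1 h2.symm) hz'o (g ^ m)
          (hQ ▸ hg'C) hg'o
    exact Ceq _ _ (hCg' ▸ centralizer_le_centralizer_pow g m)
      (by rw [h_card_cent_Q g hg1 hgc, h_card_cent_Q z hz1 hzc])
  intro a ha b hb
  by_cases hb1 : b = 1
  · rw [hb1, mul_one, one_mul]
  · have h1 : a ∈ Subgroup.centralizer ({b} : Set G) := by rw [hall b hb hb1]; exact ha
    rw [Subgroup.mem_centralizer_iff] at h1
    exact (h1 b rfl).symm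

end Cfsg.Agent.Helper55.BSW
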