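import Cfsg.Agent.Helper55.BSW.C1
import Cfsg.Agent.Helper68.BSW.C3

/-!
# S3282 (helper71, abstract Brauer–Suzuki–Wall), piece (C6): `C(z)` is abelian when `q = p ^ f`.
-/

set_option autoImplicit false

namespace Cfsg.Agent.Helper55.BSW

open Cfsg.Agent.Helper71.BSW

/-- (C6) with the TI property of the Sylow `p`-subgroups as a hypothesis. -/
theorem c_abelian_of_sylow_TI {G : Type*} [Group G] [Finite G] {t s : G} {K : Subgroup G} {q d : ℕ}
    (c : Ctx t s K q d)
    (h_arith : Odd q ∧ Odd d ∧ q.Coprime (2 * Nat.card K) ∧ d.Coprime (2 * Nat.card K) ∧ q.Coprime d ∧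
      q ^ 2 = 4 * Nat.card K * d + 1 ∧ 3 ≤ d ∧ 7 ≤ q)
    (h_card_cent_Q : ∀ z : G, z ≠ 1 → (orderOf z).Coprime (2 * Nat.card K * d) →
    Nat.card (Subgroup.centralizer ({z} : Set G)) = q)
    {p f : ℕ} [hp : Fact p.Prime] (hq : q = p ^ f)
    (hTI : ∀ P₁ P₂ : Sylow p G, P₁ ≠ P₂ → (P₁ : Subgroup G) ⊓ (P₂ : Subgroup G) = ⊥) :
    ∀ z : G, z ≠ 1 → (orderOf z).Coprime (2 * Nat.card K * d) →
    ∀ a ∈ Subgroup.centralizer ({z} : Set G), ∀ b ∈ Subgroup.centralizer ({z} : Set G),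
      a * b = b * a := by
  obtain ⟨-, -, hq2k, -, hqd, -, -, hq7⟩ := h_arith
  have hqcop : q.Coprime (2 * Nat.card K * d) := Nat.Coprime.mul_right hq2k hqd
  have hf : f ≠ 0 := by
    rintro rfl
    rw [pow_zero] at hq
    omega
  have hpcop : p.Coprime (2 * Nat.card K * d) := by
    rw [hq] at hqcop
    exact (Nat.coprime_pow_left_iff (Nat.pos_of_ne_zero hf) _ _).mp hqcop
  have hcard : Nat.card G = q * (2 * Nat.card K * d) := by
    rw [c.card]; ring
  -- non-identity elements of `C(z)` are `q`-elements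
  have L0d : ∀ z : G, z ≠ 1 → (orderOf z).Coprime (2 * Nat.card K * d) →
      ∀ v ∈ Subgroup.centralizer ({z} : Set G), orderOf v ∣ q := by
    intro z hz1 hzc v hv
    rw [← h_card_cent_Q z hz1 hzc]
    have := orderOf_dvd_natCard (⟨v, hv⟩ : Subgroup.centralizer ({z} : Set G))
    rwa [Subgroup.orderOf_mk] at this
  have L0 : ∀ z : G, z ≠ 1 → (orderOf z).Coprime (2 * Nat.card K * d) →
      ∀ v ∈ Subgroup.centralizer ({z} : Set G), (orderOf v).Coprime (2 * Nat.card K * d) :=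
    fun z hz1 hzc v hv => Nat.Coprime.coprime_dvd_left (L0d z hz1 hzc v hv) hqcop
  -- `C(z)` is a Sylow `p`-subgroup
  have hSyl : ∀ z : G, z ≠ 1 → (orderOf z).Coprime (2 * Nat.card K * d) →
      ∃ P : Sylow p G, (P : Subgroup G) = Subgroup.centralizer ({z} : Set G) := by
    intro z hz1 hzc
    have hCq := h_card_cent_Q z hz1 hzc
    have hpg : IsPGroup p (Subgroup.centralizer ({z} : Set G)) :=
      IsPGroup.of_card (n := f) (by rw [hCq, hq])
    obtain ⟨P, hP⟩ := hpg.exists_le_sylow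
    refine ⟨P, (Subgroup.eq_of_le_of_card_ge hP ?_).symm⟩
    rw [hCq]
    obtain ⟨n, hn⟩ := (IsPGroup.iff_card.mp P.2)
    have h1 : Nat.card (P : Subgroup G) ∣ Nat.card G := Subgroup.card_subgroup_dvd_card _
    rw [hcard] at h1
    have h2 : (Nat.card (P : Subgroup G)).Coprime (2 * Nat.card K * d) := by
      rw [hn]
      exact Nat.Coprime.pow_left n hpcop
    exact Nat.le_of_dvd (by omega) (h2.dvd_of_dvd_mul_right h1)
  intro z hz1 hzc
  obtain ⟨Pz, hPz⟩ := hSyl z hz1 hzc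
  have hall : ∀ g ∈ Subgroup.centralizer ({z} : Set G), g ≠ 1 →
      Subgroup.centralizer ({g} : Set G) = Subgroup.centralizer ({z} : Set G) := by
    intro g hgC hg1
    have hgc := L0 z hz1 hzc g hgC
    obtain ⟨Pg, hPg⟩ := hSyl g hg1 hgc
    have hPP : Pg = Pz := by
      by_contra hne
      have h1 := hTI Pg Pz hne
      have h2 : g ∈ (Pg : Subgroup G) ⊓ (Pz : Subgroup G) := by
        rw [hPg, hPz]
        exact ⟨self_mem_centralizer g, hgC⟩
      rw [h1, Subgroup.mem_bot] at h2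
      exact hg1 h2
    rw [← hPg, ← hPz, hPP]
  intro a ha b hb
  by_cases hb1 : b = 1
  · rw [hb1, mul_one, one_mul]
  · have h1 : a ∈ Subgroup.centralizer ({b} : Set G) := by rw [hall b hb hb1]; exact ha
    rw [Subgroup.mem_centralizer_iff] at h1
    exact (h1 b rfl).symm

theorem c_abelian_of_prime_pow {G : Type*} [Group G] [Finite G] {t s : G} {K : Subgroup G} {q d : ℕ}
    (c : Ctx t s K q d)
    (h_arith : Odd q ∧ Odd d ∧ q.Coprime (2 * Nat.card K) ∧ d.Coprime (2 * Nat.card K) ∧ q.Coprime d ∧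
      q ^ 2 = 4 * Nat.card K * d + 1 ∧ 3 ≤ d ∧ 7 ≤ q)
    (h_card_cent_Q : ∀ z : G, z ≠ 1 → (orderOf z).Coprime (2 * Nat.card K * d) →
    Nat.card (Subgroup.centralizer ({z} : Set G)) = q)
    {p f : ℕ} [Fact p.Prime] (hq : q = p ^ f)
    (hloc : ∀ U : Subgroup G, IsPGroup p U → U ≠ ⊥ →
      ∃ M : Sylow p ↥(Subgroup.normalizer (U : Set G)),
        (M : Subgroup ↥(Subgroup.normalizer (U : Set G))).Normal) :
    ∀ z : G, z ≠ 1 → (orderOf z).Coprime (2 * Nat.card K * d) →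
    ∀ a ∈ Subgroup.centralizer ({z} : Set G), ∀ b ∈ Subgroup.centralizer ({z} : Set G),
      a * b = b * a :=
  c_abelian_of_sylow_TI c h_arith h_card_cent_Q hq
    (Cfsg.Agent.Helper68.BSW.sylow_TI_of_local p hloc)

end Cfsg.Agent.Helper55.BSW
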