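import Cfsg.Agent.Helper71.BSW.DefsCT

/-!
# S3282 (helper71, abstract Brauer–Suzuki–Wall), piece (T0): the TI summation formula.
-/

set_option autoImplicit false

namespace Cfsg.Agent.Helper55.BSW

open Cfsg.Agent.Helper71.BSW

/-- The TI bijection `𝒦 × C(t) ≃ G × K#`, compatible with conjugacy. -/
theorem exists_TI_equiv {G : Type*} [Group G] {t s : G} {K : Subgroup G}
    (h : Hyp t s K) (A : FactsA0 t s K) :
    ∃ Ψ : {g : G // g ≠ 1 ∧ ∃ x : G, x * g * x⁻¹ ∈ K} × ↥(Subgroup.centralizer ({t} : Set G)) ≃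
      G × {y : G // y ∈ K ∧ y ≠ 1}, ∀ p, ∃ x : G, ((Ψ p).2 : G) = x * p.1.1 * x⁻¹ := by
  classical
  -- `C(t)` normalizes `K`
  have hnorm : ∀ c ∈ Subgroup.centralizer ({t} : Set G), ∀ y ∈ K, c * y * c⁻¹ ∈ K := by
    intro c hc y hy
    rcases A.mem_cent_t_cases c hc with hcK | ⟨x, hx, rfl⟩
    · rw [h.hKab c hcK y hy, mul_inv_cancel_right]
      exact hy
    · rw [A.s_mul_inverts x hx y hy]
      exact K.inv_mem hy
  -- chosen conjugators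
  have hex : ∀ g : {g : G // g ≠ 1 ∧ ∃ x : G, x * g * x⁻¹ ∈ K}, ∃ x : G, x * g.1 * x⁻¹ ∈ K :=
    fun g => g.2.2
  choose xg hxg using hex
  have hyg1 : ∀ g : {g : G // g ≠ 1 ∧ ∃ x : G, x * g * x⁻¹ ∈ K}, xg g * g.1 * (xg g)⁻¹ ≠ 1 := by
    intro g hg
    rw [conj_eq_one_iff] at hg
    exact g.2.1 hg
  let Ψ : {g : G // g ≠ 1 ∧ ∃ x : G, x * g * x⁻¹ ∈ K} × ↥(Subgroup.centralizer ({t} : Set G)) →
      G × {y : G // y ∈ K ∧ y ≠ 1} := fun p =>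
    (p.2.1 * xg p.1, ⟨p.2.1 * (xg p.1 * p.1.1 * (xg p.1)⁻¹) * p.2.1⁻¹,
      hnorm _ p.2.2 _ (hxg p.1), fun h1 => hyg1 p.1 (conj_eq_one_iff.mp h1)⟩)
  have hΨinj : Function.Injective Ψ := by
    rintro ⟨g, c⟩ ⟨g', c'⟩ hp
    have h1 : c.1 * xg g = c'.1 * xg g' := congrArg Prod.fst hp
    have h2 : c.1 * (xg g * g.1 * (xg g)⁻¹) * c.1⁻¹ = c'.1 * (xg g' * g'.1 * (xg g')⁻¹) * c'.1⁻¹ :=
      congrArg (fun q => (q.2 : G)) hp
    have hgg : g.1 = g'.1 := by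
      have e1 : g.1 = (c.1 * xg g)⁻¹ * (c.1 * (xg g * g.1 * (xg g)⁻¹) * c.1⁻¹) * (c.1 * xg g) := by
        group
      have e2 : g'.1 = (c'.1 * xg g')⁻¹ * (c'.1 * (xg g' * g'.1 * (xg g')⁻¹) * c'.1⁻¹) *
          (c'.1 * xg g') := by
        group
      rw [e1, e2, h1, h2]
    have hgg' : g = g' := Subtype.ext hgg
    subst hgg'
    have hcc : c.1 = c'.1 := mul_right_cancel h1
    rw [Subtype.ext hcc]
  have hΨsurj : Function.Surjective Ψ := by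
    rintro ⟨x, ⟨y, hyK, hy1⟩⟩
    have hg : x⁻¹ * y * x ≠ 1 ∧ ∃ x' : G, x' * (x⁻¹ * y * x) * x'⁻¹ ∈ K := by
      refine ⟨fun h1 => hy1 ?_, x, ?_⟩
      · have : y = x * (x⁻¹ * y * x) * x⁻¹ := by group
        rw [this, h1]; group
      · have : x * (x⁻¹ * y * x) * x⁻¹ = y := by group
        rw [this]; exact hyK
    set g : {g : G // g ≠ 1 ∧ ∃ x : G, x * g * x⁻¹ ∈ K} := ⟨x⁻¹ * y * x, hg⟩ with hgdef
    have hcy : (x * (xg g)⁻¹) * (xg g * g.1 * (xg g)⁻¹) * (x * (xg g)⁻¹)⁻¹ = y := by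
      show (x * (xg g)⁻¹) * (xg g * (x⁻¹ * y * x) * (xg g)⁻¹) * (x * (xg g)⁻¹)⁻¹ = y
      group
    have hcC : x * (xg g)⁻¹ ∈ Subgroup.centralizer ({t} : Set G) :=
      A.mem_cent_t_of_conj_mem _ (hxg g) (hyg1 g) _ (by rw [hcy]; exact hyK)
    refine ⟨(g, ⟨x * (xg g)⁻¹, hcC⟩), ?_⟩
    apply Prod.ext
    · show x * (xg g)⁻¹ * xg g = x
      group
    · apply Subtype.ext
      exact hcy
  refine ⟨Equiv.ofBijective Ψ ⟨hΨinj, hΨsurj⟩, fun p => ⟨p.2.1 * xg p.1, ?_⟩⟩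
  show p.2.1 * (xg p.1 * p.1.1 * (xg p.1)⁻¹) * p.2.1⁻¹ = p.2.1 * xg p.1 * p.1.1 * (p.2.1 * xg p.1)⁻¹
  group

theorem t_sum_TI {G : Type*} [Group G] [Fintype G] [Fintype (IrrCharacter G)] {t s : G} {K : Subgroup G}
    [Fintype ↥K] [Fintype (↥K →* ℂˣ)]
    (h : Hyp t s K) (A0 : FactsA0 t s K)
    :
    ∀ F : G → ℂ, (∀ g x : G, F (x * g * x⁻¹) = F g) →
    (∀ g : G, (∀ x : G, x * g * x⁻¹ ∉ K) → F g = 0) →
    ∑ g : G, F g = F 1 + (Nat.card G : ℂ) / (2 * (Nat.card K : ℂ)) *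
      ∑ y : K, (1 - ind (y : G) 1) * F (y : G) := by
  classical
  intro F hconj hoff
  obtain ⟨Ψ, hΨ⟩ := exists_TI_equiv h A0
  let _ : Fintype {g : G // g ≠ 1 ∧ ∃ x : G, x * g * x⁻¹ ∈ K} := Fintype.ofFinite _
  let _ : Fintype {y : G // y ∈ K ∧ y ≠ 1} := Fintype.ofFinite _
  let _ : Fintype ↥(Subgroup.centralizer ({t} : Set G)) := Fintype.ofFinite _
  -- step 1: split the sum
  have s1 : ∑ g : G, F g = F 1 + ∑ g : {g : G // g ≠ 1 ∧ ∃ x : G, x * g * x⁻¹ ∈ K}, F g.1 := by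
    rw [← Finset.sum_filter_add_sum_filter_not Finset.univ
      (fun g : G => g ≠ 1 ∧ ∃ x : G, x * g * x⁻¹ ∈ K) F, add_comm]
    congr 1
    · apply Finset.sum_eq_single_of_mem (1 : G)
      · simp
      · intro g hg hg1
        rw [Finset.mem_filter] at hg
        apply hoff g
        intro x hx
        exact hg.2 ⟨hg1, x, hx⟩
    · rw [← Finset.sum_subtype_eq_sum_filter]
      exact Finset.sum_congr (by ext; simp) (fun _ _ => rfl)
  -- step 2: the bijection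
  have s2 : (2 * (Nat.card K : ℂ)) *
      ∑ g : {g : G // g ≠ 1 ∧ ∃ x : G, x * g * x⁻¹ ∈ K}, F g.1 =
      (Nat.card G : ℂ) * ∑ y : {y : G // y ∈ K ∧ y ≠ 1}, F y.1 := by
    have e1 : ∑ p : {g : G // g ≠ 1 ∧ ∃ x : G, x * g * x⁻¹ ∈ K} ×
        ↥(Subgroup.centralizer ({t} : Set G)), F p.1.1 =
        ∑ q : G × {y : G // y ∈ K ∧ y ≠ 1}, F q.2.1 := by
      apply Fintype.sum_equiv Ψ
      intro p
      obtain ⟨x, hx⟩ := hΨ p
      rw [hx, hconj]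
    have eL : ∑ p : {g : G // g ≠ 1 ∧ ∃ x : G, x * g * x⁻¹ ∈ K} ×
        ↥(Subgroup.centralizer ({t} : Set G)), F p.1.1 =
        (Fintype.card ↥(Subgroup.centralizer ({t} : Set G)) : ℂ) *
          ∑ g : {g : G // g ≠ 1 ∧ ∃ x : G, x * g * x⁻¹ ∈ K}, F g.1 := by
      rw [Fintype.sum_prod_type]
      simp only [Finset.sum_const, Finset.card_univ, nsmul_eq_mul]
      rw [Finset.mul_sum]
    have eR : ∑ q : G × {y : G // y ∈ K ∧ y ≠ 1}, F q.2.1 =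
        (Fintype.card G : ℂ) * ∑ y : {y : G // y ∈ K ∧ y ≠ 1}, F y.1 := by
      rw [Fintype.sum_prod_type]
      simp only [Finset.sum_const, Finset.card_univ, nsmul_eq_mul]
    rw [eL, eR, ← Nat.card_eq_fintype_card, ← Nat.card_eq_fintype_card, A0.card_cent_t] at e1
    rw [← e1]
    push_cast
    ring
  -- step 3: the sum over `K`
  have s3 : ∑ y : K, (1 - ind (y : G) 1) * F (y : G) =
      ∑ y : {y : G // y ∈ K ∧ y ≠ 1}, F y.1 := by
    have e1 : ∀ y : K, (1 - ind (y : G) 1) * F (y : G) = if (y : G) ≠ 1 then F (y : G) else 0 := by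
      intro y
      by_cases hy : (y : G) = 1
      · rw [ind_of_eq hy]; simp [hy]
      · rw [ind_of_ne hy]; simp [hy]
    rw [Finset.sum_congr rfl (fun y _ => e1 y), ← Finset.sum_filter,
      ← Finset.sum_subtype_eq_sum_filter]
    let _ : Fintype {y : K // (y : G) ≠ 1} := Fintype.ofFinite _
    have e2 : ∑ x ∈ Finset.subtype (fun y : K => (y : G) ≠ 1) Finset.univ, F ((x : K) : G) =
        ∑ x : {y : K // (y : G) ≠ 1}, F ((x : K) : G) :=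
      Finset.sum_congr (by ext; simp) (fun _ _ => rfl)
    rw [e2]
    exact Fintype.sum_equiv
      (Equiv.subtypeSubtypeEquivSubtypeInter (fun y : G => y ∈ K) (fun y : G => y ≠ 1)) _ _
      (fun _ => rfl)
  have hk : (2 * (Nat.card K : ℂ)) ≠ 0 := by
    have : Nat.card K ≠ 0 := Nat.card_pos.ne'
    simp
  rw [s1, s3]
  congr 1
  rw [div_mul_eq_mul_div, eq_div_iff hk, mul_comm, s2]

end Cfsg.Agent.Helper55.BSW
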