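import Cfsg.Agent.Helper71.BSW.DefsCT

/-!
# S3282 (helper71, abstract Brauer–Suzuki–Wall), piece (T7b): `K` has exactly one non-trivial real
linear character.
-/

set_option autoImplicit false

namespace Cfsg.Agent.Helper55.BSW

open Cfsg.Agent.Helper71.BSW

/-- a finite abelian group with exactly one involution has exactly one non-trivial real linear
character -/
theorem exists_unique_real_char {A : Type*} [CommGroup A] [Finite A] (t : A) (ht : orderOf t = 2)
    (huniq : ∀ x : A, orderOf x = 2 → x = t) :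
    ∃ σ : A →* ℂˣ, σ ≠ 1 ∧ σ⁻¹ = σ ∧ ∀ μ : A →* ℂˣ, μ ≠ 1 → μ⁻¹ = μ → μ = σ := by
  classical
  set f : A →* A := powMonoidHom 2 with hf
  have ht1 : t ≠ 1 := by
    rintro rfl
    rw [orderOf_one] at ht
    omega
  have ht2 : t ^ 2 = 1 := by rw [← ht]; exact pow_orderOf_eq_one t
  -- the kernel of squaring is `{1, t}`
  have hker : Nat.card f.ker = 2 := by
    rw [Nat.card_eq_two_iff]
    refine ⟨⟨1, f.ker.one_mem⟩, ⟨t, ?_⟩, ?_, ?_⟩
    · rw [MonoidHom.mem_ker]; exact ht2
    · intro h1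
      exact ht1 (congrArg Subtype.val h1).symm
    · rw [Set.eq_univ_iff_forall]
      rintro ⟨x, hx⟩
      rw [MonoidHom.mem_ker] at hx
      have hx2 : x ^ 2 = 1 := hx
      by_cases hx1 : x = 1
      · left; exact Subtype.ext hx1
      · right
        rw [Set.mem_singleton_iff]
        apply Subtype.ext
        apply huniq
        exact orderOf_eq_prime hx2 hx1
  have hidx : f.range.index = 2 := by
    rw [Subgroup.index_range, hker]
  set H : Subgroup A := f.range with hH
  have hsq : ∀ y : A, y ^ 2 ∈ H := fun y => ⟨y, rfl⟩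
  have hmul : ∀ {a b : A}, a * b ∈ H ↔ (a ∈ H ↔ b ∈ H) := Subgroup.mul_mem_iff_of_index_two hidx
  obtain ⟨y₀, hy₀⟩ : ∃ y₀ : A, y₀ ∉ H := by
    by_contra hall
    push Not at hall
    have : H = ⊤ := (Subgroup.eq_top_iff' H).mpr hall
    rw [this, Subgroup.index_top] at hidx
    omega
  let σ : A →* ℂˣ :=
    { toFun := fun y => if y ∈ H then 1 else -1
      map_one' := by simp [H.one_mem]
      map_mul' := by
        intro a b
        by_cases ha : a ∈ H <;> by_cases hb : b ∈ H
        · have : a * b ∈ H := hmul.mpr (iff_of_true ha hb)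
          simp [ha, hb, this]
        · have : a * b ∉ H := fun h1 => hb ((hmul.mp h1).mp ha)
          simp [ha, hb, this]
        · have : a * b ∉ H := fun h1 => ha ((hmul.mp h1).mpr hb)
          simp [ha, hb, this]
        · have : a * b ∈ H := hmul.mpr (iff_of_false ha hb)
          simp [ha, hb, this] }
  have hσin : ∀ y ∈ H, σ y = 1 := fun y hy => if_pos hy
  have hσout : ∀ y, y ∉ H → σ y = -1 := fun y hy => if_neg hy
  refine ⟨σ, ?_, ?_, ?_⟩
  · intro h1
    have h2 : σ y₀ = 1 := by rw [h1]; rfl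
    rw [hσout y₀ hy₀] at h2
    have h3 : ((-1 : ℂˣ) : ℂ) = ((1 : ℂˣ) : ℂ) := congrArg _ h2
    norm_num at h3
  · ext y
    rw [MonoidHom.inv_apply]
    by_cases hy : y ∈ H
    · rw [hσin y hy, inv_one]
    · rw [hσout y hy, inv_neg, inv_one]
  · intro μ hμ1 hμinv
    have hμsq : ∀ y : A, μ y * μ y = 1 := by
      intro y
      have h1 : (μ y)⁻¹ = μ y := by
        rw [← MonoidHom.inv_apply, hμinv]
      calc μ y * μ y = (μ y)⁻¹ * μ y := by rw [h1]
        _ = 1 := inv_mul_cancel _
    have hμH : ∀ y ∈ H, μ y = 1 := by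
      rintro y ⟨z, rfl⟩
      show μ (z ^ 2) = 1
      rw [map_pow, pow_two, hμsq]
    have hpm : ∀ y : A, μ y = 1 ∨ μ y = -1 := by
      intro y
      have h1 : ((μ y : ℂˣ) : ℂ) * ((μ y : ℂˣ) : ℂ) = 1 := by
        rw [← Units.val_mul, hμsq, Units.val_one]
      rcases mul_self_eq_one_iff.mp h1 with h2 | h2
      · left; exact Units.ext h2
      · right; exact Units.ext (by rw [h2]; simp)
    obtain ⟨z, hz⟩ : ∃ z : A, μ z ≠ 1 := by
      by_contra hall
      push Not at hall
      exact hμ1 (MonoidHom.ext hall)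
    have hzH : z ∉ H := fun h1 => hz (hμH z h1)
    have hzm : μ z = -1 := (hpm z).resolve_left hz
    ext y
    by_cases hy : y ∈ H
    · rw [hμH y hy, hσin y hy]
    · rw [hσout y hy]
      have h1 : y * z ∈ H := hmul.mpr (iff_of_false hy hzH)
      have h2 : μ y * μ z = 1 := by rw [← map_mul]; exact hμH _ h1
      rw [hzm] at h2
      have h3 : μ y = -1 := by
        have : μ y = (μ y * -1) * -1 := by simp
        rw [this, h2]; simp
      rw [h3]

theorem t_exists_sigma {G : Type*} [Group G] [Finite G] {t s : G} {K : Subgroup G}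
    (h : Hyp t s K) (A0 : FactsA0 t s K) :
    ∃ σ : K →* ℂˣ, σ ≠ 1 ∧ σ⁻¹ = σ ∧ ∀ μ : K →* ℂˣ, μ ≠ 1 → μ⁻¹ = μ → μ = σ := by
  let _ : CommGroup K :=
    { (inferInstance : Group K) with
      mul_comm := fun a b => Subtype.ext (h.hKab a a.2 b b.2) }
  have h1 : orderOf (⟨t, h.htK⟩ : K) = 2 := by
    rw [← h.ht]
    exact Subgroup.orderOf_mk t h.htK
  have h2 : ∀ x : K, orderOf x = 2 → x = ⟨t, h.htK⟩ := by
    intro x hx
    apply Subtype.ext
    apply A0.eq_t_of_mem_K x.1 x.2
    rw [← hx]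
    exact (Subgroup.orderOf_coe x)
  exact exists_unique_real_char (⟨t, h.htK⟩ : K) h1 h2

end Cfsg.Agent.Helper55.BSW
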